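import Mathlib.GroupTheory.GroupAction.Quotient
import Mathlib.GroupTheory.GroupAction.Blocks
import Mathlib.GroupTheory.GroupAction.Primitive
import Mathlib.GroupTheory.GroupAction.SubMulAction
import Mathlib.GroupTheory.Index
import Mathlib.GroupTheory.Sylow
import Mathlib.Algebra.IsPrimePow

/-! The subgroup generated by the derangements of a transitive group. -/

set_option linter.unusedSectionVars false
set_option linter.style.haveILetI false

namespace CfsgLib.Base.Derange

open MulAction

variable {G Ω : Type*} [Group G] [Finite G] [MulAction G Ω]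

/-- the derangement subgroup -/
def derSub (G Ω : Type*) [Group G] [MulAction G Ω] : Subgroup G :=
  Subgroup.closure {g : G | ∀ ω : Ω, g • ω ≠ ω}

instance derSub_normal : (derSub G Ω).Normal := by
  constructor
  intro n hn g
  have : (derSub G Ω).map (MulAut.conj g).toMonoidHom ≤ derSub G Ω := by
    rw [derSub, MonoidHom.map_closure, Subgroup.closure_le]
    rintro _ ⟨x, hx, rfl⟩
    apply Subgroup.subset_closure
    intro ω h
    apply hx (g⁻¹ • ω)
    have h' : (g * x * g⁻¹) • ω = ω := h
    rw [← mul_smul] at *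
    calc (x * g⁻¹) • ω = (g⁻¹ * (g * x * g⁻¹)) • ω := by congr 1; group
      _ = g⁻¹ • ω := by rw [mul_smul, h']
  exact this ⟨n, hn, rfl⟩

theorem exists_fixed_of_not_mem {g : G} (hg : g ∉ derSub G Ω) : ∃ ω : Ω, g • ω = ω := by
  by_contra h
  push Not at h
  exact hg (Subgroup.subset_closure h)

open Classical in
/-- in a transitive group the derangement subgroup is transitive -/
theorem derSub_transitive [Fintype Ω] (htrans : IsPretransitive G Ω) :
    IsPretransitive ↥(derSub G Ω) Ω := by
  haveI := Fintype.ofFinite G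
  set D := derSub G Ω
  constructor
  intro x y
  haveI : Nonempty Ω := ⟨x⟩
  haveI : Fintype (Quotient (orbitRel G Ω)) := Fintype.ofFinite _
  haveI : Fintype (Quotient (orbitRel ↥D Ω)) := Fintype.ofFinite _
  have hG := sum_card_fixedBy_eq_card_orbits_mul_card_group G Ω
  have hD := sum_card_fixedBy_eq_card_orbits_mul_card_group ↥D Ω
  have h1 : Fintype.card (Quotient (orbitRel G Ω)) = 1 := by
    rw [Fintype.card_eq_one_iff]
    refine ⟨Quotient.mk'' x, fun q => Quotient.inductionOn' q fun z => Quotient.sound' ?_⟩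
    obtain ⟨g, hg⟩ := exists_smul_eq G x z
    exact ⟨g, hg⟩
  rw [h1, one_mul] at hG
  have hsplit : ∑ g : G, Fintype.card (fixedBy Ω g) =
      (∑ d : ↥D, Fintype.card (fixedBy Ω d)) +
        ∑ g ∈ Finset.univ.filter (fun g : G => g ∉ D), Fintype.card (fixedBy Ω g) := by
    rw [← Finset.sum_filter_add_sum_filter_not Finset.univ (fun g : G => g ∈ D)]
    congr 1
    exact Finset.sum_subtype (Finset.univ.filter fun g : G => g ∈ D) (fun g => by simp)
      (fun g : G => Fintype.card (fixedBy Ω g))
  have hge : (Finset.univ.filter (fun g : G => g ∉ D)).card ≤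
      ∑ g ∈ Finset.univ.filter (fun g : G => g ∉ D), Fintype.card (fixedBy Ω g) := by
    rw [Finset.card_eq_sum_ones]
    refine Finset.sum_le_sum fun g hg => ?_
    obtain ⟨ω, hω⟩ := exists_fixed_of_not_mem (Finset.mem_filter.mp hg).2
    exact Fintype.card_pos_iff.mpr ⟨⟨ω, hω⟩⟩
  have hc : Fintype.card ↥D + (Finset.univ.filter (fun g : G => g ∉ D)).card = Fintype.card G := by
    rw [Fintype.card_subtype, Finset.card_filter_add_card_filter_not]
    rfl
  have hle : Fintype.card (Quotient (orbitRel ↥D Ω)) ≤ 1 := by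
    by_contra hlt
    have : 2 * Fintype.card ↥D ≤ Fintype.card (Quotient (orbitRel ↥D Ω)) * Fintype.card ↥D :=
      Nat.mul_le_mul_right _ (by omega)
    have hpos : 0 < Fintype.card ↥D := Fintype.card_pos
    omega
  have := Fintype.card_le_one_iff.mp hle (Quotient.mk'' y) (Quotient.mk'' x)
  obtain ⟨d, hd⟩ := Quotient.exact' this
  exact ⟨d, hd⟩

open Classical in
/-- fixed points on a coset of a transitive normal subgroup average to one -/
theorem sum_fixed_coset {X : Type*} [Fintype X] [Nonempty X] [MulAction G X] (D : Subgroup G) [Fintype D]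
    (hD : IsPretransitive ↥D X) (g : G) :
    ∑ d : ↥D, (Finset.univ.filter fun x : X => (g * d) • x = x).card = Fintype.card ↥D := by
  haveI := hD
  have hx : ∀ x : X, (Finset.univ.filter fun d : ↥D => (g * d) • x = x).card * Fintype.card X =
      Fintype.card ↥D := by
    intro x
    obtain ⟨d₀, hd₀⟩ := exists_smul_eq ↥D x (g⁻¹ • x)
    have : (Finset.univ.filter fun d : ↥D => (g * d) • x = x).card =
        Fintype.card (stabilizer ↥D x) := by
      rw [Fintype.card_subtype]
      refine Finset.card_bij' (fun d _ => d₀⁻¹ * d) (fun d _ => d₀ * d) ?_ ?_ (by simp) (by simp)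
      · intro d hd
        simp only [Finset.mem_filter, Finset.mem_univ, true_and, mem_stabilizer_iff] at hd ⊢
        rw [mul_smul, inv_smul_eq_iff, hd₀, eq_inv_smul_iff]
        show g • ((d : G) • x) = x
        rw [← mul_smul]
        exact hd
      · intro d hd
        simp only [Finset.mem_filter, Finset.mem_univ, true_and, mem_stabilizer_iff] at hd ⊢
        rw [mul_smul]
        show g • ((d₀ * d) • x) = x
        rw [mul_smul, hd, hd₀, smul_inv_smul]
    rw [this, mul_comm]
    haveI : Fintype (orbit ↥D x) := Fintype.ofFinite _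
    rw [← card_orbit_mul_card_stabilizer_eq_card_group ↥D x]
    congr 1
    exact (Fintype.card_congr ((Equiv.setCongr (orbit_eq_univ ↥D x)).trans (Equiv.Set.univ X))).symm
  have e : ∑ d : ↥D, (Finset.univ.filter fun x : X => (g * d) • x = x).card =
      ∑ x : X, (Finset.univ.filter fun d : ↥D => (g * d) • x = x).card := by
    simp only [Finset.card_filter]
    exact Finset.sum_comm
  apply Nat.eq_of_mul_eq_mul_right (Fintype.card_pos (α := X))
  rw [e, Finset.sum_mul, Finset.sum_congr rfl fun x _ => hx x, Finset.sum_const, Finset.card_univ,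
    smul_eq_mul, mul_comm]

/-- elements outside the derangement subgroup fix exactly one point -/
theorem unique_fixed [Fintype Ω] (htrans : IsPretransitive G Ω) {g : G} (hg : g ∉ derSub G Ω)
    {a b : Ω} (ha : g • a = a) (hb : g • b = b) : a = b := by
  classical
  haveI := Fintype.ofFinite ↥(derSub G Ω)
  haveI : Nonempty Ω := ⟨a⟩
  by_contra hne
  have h := sum_fixed_coset (derSub G Ω) (derSub_transitive htrans) g
  have hlt : ∑ _d : ↥(derSub G Ω), 1 <
      ∑ d : ↥(derSub G Ω), (Finset.univ.filter fun x : Ω => (g * d) • x = x).card := by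
    refine Finset.sum_lt_sum (fun d _ => ?_) ⟨1, Finset.mem_univ _, ?_⟩
    · obtain ⟨ω, hω⟩ := exists_fixed_of_not_mem (g := g * d) (fun h => hg (by
        simpa using mul_mem h (inv_mem d.2)))
      exact Finset.card_pos.mpr ⟨ω, by simpa using hω⟩
    · refine Finset.one_lt_card.mpr ⟨a, ?_, b, ?_, hne⟩ <;> simp [ha, hb]
  rw [h, Finset.sum_const, Finset.card_univ, smul_eq_mul, mul_one] at hlt
  exact lt_irrefl _ hlt

/-- the stabilizer maps onto the quotient by a transitive normal subgroup -/
theorem index_subgroupOf_stabilizer {X : Type*} [MulAction G X] (D : Subgroup G) [D.Normal]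
    (hD : IsPretransitive ↥D X) (H : Subgroup G) (x : X) (hH : stabilizer G x ≤ H) :
    (D.subgroupOf H).index = D.index := by
  haveI := hD
  have hsurj : Function.Surjective ((QuotientGroup.mk' D).comp H.subtype) := by
    intro q
    obtain ⟨g, rfl⟩ := QuotientGroup.mk_surjective q
    obtain ⟨d, hd⟩ := exists_smul_eq ↥D x (g • x)
    refine ⟨⟨(d : G)⁻¹ * g, hH ?_⟩, ?_⟩
    · rw [mem_stabilizer_iff, mul_smul, ← hd]
      exact inv_smul_smul (d : G) x
    · show (((d : G)⁻¹ * g : G) : G ⧸ D) = (g : G ⧸ D)
      rw [QuotientGroup.eq, mul_inv_rev, inv_inv, mul_assoc]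
      have := Subgroup.Normal.conj_mem' (H := D) inferInstance _ d.2 g
      rwa [mul_assoc] at this
  have hker : ((QuotientGroup.mk' D).comp H.subtype).ker = D.subgroupOf H := by
    rw [← MonoidHom.comap_ker, QuotientGroup.ker_mk', Subgroup.subgroupOf]
  rw [← hker, Subgroup.index_ker, MonoidHom.range_eq_top.mpr hsurj, Subgroup.card_top,
    ← Subgroup.index_eq_card]

open Classical in
/-- the index divides the degree minus one -/
theorem index_dvd {X : Type*} [Fintype X] [MulAction G X] (x : X) (D : Subgroup G) [D.Normal]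
    (hD : IsPretransitive ↥D X) (huniq : ∀ g : G, g ∉ D → ∀ a b : X, g • a = a → g • b = b → a = b) :
    D.index ∣ Fintype.card X - 1 := by
  haveI := Fintype.ofFinite G
  set H := stabilizer G x with hH
  have hk := index_subgroupOf_stabilizer D hD H x le_rfl
  have hdvd : ∀ y : X, y ≠ x → D.index ∣ Nat.card (orbit ↥H y) := by
    intro y hy
    rw [Nat.card_coe_set_eq, ← index_stabilizer, ← hk]
    refine Subgroup.index_dvd_of_le fun h hh => ?_
    by_contra hn
    exact hy (huniq (h : G) hn y x (mem_stabilizer_iff.mp hh) (mem_stabilizer_iff.mp h.2))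
  haveI : Fintype (Quotient (orbitRel ↥H X)) := Fintype.ofFinite _
  have hsum : Fintype.card X = ∑ ω : Quotient (orbitRel ↥H X), Nat.card (orbit ↥H ω.out) := by
    rw [Fintype.card_congr (selfEquivSigmaOrbits ↥H X), Fintype.card_sigma]
    simp [Nat.card_eq_fintype_card]
  rw [← Finset.add_sum_erase _ _ (Finset.mem_univ (Quotient.mk'' x : Quotient (orbitRel ↥H X)))] at hsum
  have h1 : Nat.card (orbit ↥H (Quotient.mk'' x : Quotient (orbitRel ↥H X)).out) = 1 := by
    have hout : (Quotient.mk'' x : Quotient (orbitRel ↥H X)).out = x := by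
      have := Quotient.exact' (Quotient.out_eq (Quotient.mk'' x : Quotient (orbitRel ↥H X)))
      obtain ⟨h, hh⟩ := this
      rw [← hh]
      exact mem_stabilizer_iff.mp h.2
    rw [hout, Nat.card_coe_set_eq, ← index_stabilizer]
    have : stabilizer (↥H) x = ⊤ := eq_top_iff.mpr fun h _ => mem_stabilizer_iff.mpr h.2
    rw [this, Subgroup.index_top]
  rw [h1] at hsum
  rw [hsum, Nat.add_sub_cancel_left]
  refine Finset.dvd_sum fun ω hω => hdvd _ fun he => ?_
  apply (Finset.mem_erase.mp hω).1
  conv_lhs => rw [← Quotient.out_eq ω]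
  exact congrArg Quotient.mk'' he

end CfsgLib.Base.Derange
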