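import Cfsg.Agent.Base.Derange.Basic
import Mathlib.Analysis.Real.Sqrt

/-! Rank, index and imprimitivity statements for the derangement subgroup. -/

set_option linter.unusedSectionVars false
set_option linter.style.haveILetI false

namespace CfsgLib.Base.Derange

open MulAction
open scoped Pointwise

variable {G Ω : Type*} [Group G] [Finite G] [MulAction G Ω]

open Classical in
theorem rank_formula [Fintype Ω] (htrans : IsPretransitive G Ω) :
    Nat.card (orbitRel.Quotient ↥(derSub G Ω) (Ω × Ω)) - 1 =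
      (Nat.card (orbitRel.Quotient G (Ω × Ω)) - 1) * (derSub G Ω).index := by
  haveI := Fintype.ofFinite G
  set D := derSub G Ω with hDdef
  haveI : Fintype (Quotient (orbitRel G (Ω × Ω))) := Fintype.ofFinite _
  haveI : Fintype (Quotient (orbitRel ↥D (Ω × Ω))) := Fintype.ofFinite _
  rcases isEmpty_or_nonempty Ω with hE | hne
  · haveI : IsEmpty (orbitRel.Quotient G (Ω × Ω)) :=
      ⟨fun q => Quotient.inductionOn' q fun z => hE.false z.1⟩
    haveI : IsEmpty (orbitRel.Quotient ↥D (Ω × Ω)) :=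
      ⟨fun q => Quotient.inductionOn' q fun z => hE.false z.1⟩
    simp
  have hG := sum_card_fixedBy_eq_card_orbits_mul_card_group G (Ω × Ω)
  have hD := sum_card_fixedBy_eq_card_orbits_mul_card_group ↥D (Ω × Ω)
  have hout : ∀ g ∈ Finset.univ.filter (fun g : G => g ∉ D), Fintype.card (fixedBy (Ω × Ω) g) = 1 := by
    intro g hg
    have hg' : g ∉ D := (Finset.mem_filter.mp hg).2
    obtain ⟨ω, hω⟩ := exists_fixed_of_not_mem hg'
    rw [Fintype.card_eq_one_iff]
    refine ⟨⟨(ω, ω), Prod.ext hω hω⟩, fun z => Subtype.ext ?_⟩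
    have hz : g • z.1 = z.1 := z.2
    exact Prod.ext (unique_fixed htrans hg' (congrArg Prod.fst hz) hω)
      (unique_fixed htrans hg' (congrArg Prod.snd hz) hω)
  have hsplit : ∑ g : G, Fintype.card (fixedBy (Ω × Ω) g) =
      (∑ d : ↥D, Fintype.card (fixedBy (Ω × Ω) d)) +
        (Finset.univ.filter (fun g : G => g ∉ D)).card := by
    rw [← Finset.sum_filter_add_sum_filter_not Finset.univ (fun g : G => g ∈ D),
      Finset.sum_congr rfl hout, Finset.sum_const, smul_eq_mul, mul_one]
    congr 1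
    exact Finset.sum_subtype (Finset.univ.filter fun g : G => g ∈ D) (fun g => by simp)
      (fun g : G => Fintype.card (fixedBy (Ω × Ω) g))
  have hc : Fintype.card ↥D + (Finset.univ.filter (fun g : G => g ∉ D)).card = Fintype.card G := by
    rw [Fintype.card_subtype, Finset.card_filter_add_card_filter_not]
    rfl
  rw [hG, hD] at hsplit
  have hidx : D.index * Fintype.card ↥D = Fintype.card G := by
    rw [← Nat.card_eq_fintype_card, ← Nat.card_eq_fintype_card, Subgroup.index_mul_card]
  have hpos : 0 < Fintype.card ↥D := Fintype.card_pos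
  rw [show Nat.card (orbitRel.Quotient ↥D (Ω × Ω)) = Fintype.card (Quotient (orbitRel ↥D (Ω × Ω)))
      from Nat.card_eq_fintype_card,
    show Nat.card (orbitRel.Quotient G (Ω × Ω)) = Fintype.card (Quotient (orbitRel G (Ω × Ω)))
      from Nat.card_eq_fintype_card]
  obtain ⟨z⟩ : Nonempty (Ω × Ω) := inferInstance
  have hr1 : 0 < Fintype.card (Quotient (orbitRel G (Ω × Ω))) :=
    Fintype.card_pos_iff.mpr ⟨Quotient.mk'' z⟩
  have hr2 : 0 < Fintype.card (Quotient (orbitRel ↥D (Ω × Ω))) :=
    Fintype.card_pos_iff.mpr ⟨Quotient.mk'' z⟩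
  generalize Fintype.card (Quotient (orbitRel G (Ω × Ω))) = r at *
  generalize Fintype.card (Quotient (orbitRel ↥D (Ω × Ω))) = s at *
  obtain ⟨r, rfl⟩ : ∃ r', r = r' + 1 := ⟨r - 1, by omega⟩
  obtain ⟨s, rfl⟩ : ∃ s', s = s' + 1 := ⟨s - 1, by omega⟩
  simp only [Nat.add_sub_cancel]
  apply Nat.eq_of_mul_eq_mul_right hpos
  rw [mul_assoc, hidx]
  rw [add_mul, add_mul, one_mul, one_mul] at hsplit
  omega

theorem index_dvd_pred [Fintype Ω] [Nonempty Ω] (htrans : IsPretransitive G Ω) :
    (derSub G Ω).index ∣ Fintype.card Ω - 1 :=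
  index_dvd (Classical.arbitrary Ω) _ (derSub_transitive htrans)
    fun _ hg _ _ ha hb => unique_fixed htrans hg ha hb

open Classical in
theorem prime_pow_of_extreme [Fintype Ω] [FaithfulSMul G Ω] (htrans : IsPretransitive G Ω)
    (hΩ : 2 ≤ Fintype.card Ω) (hidx : (derSub G Ω).index = Fintype.card Ω - 1) :
    IsPrimePow (Fintype.card Ω) := by
  haveI := Fintype.ofFinite G
  set D := derSub G Ω with hDdef
  haveI hDt : IsPretransitive ↥D Ω := derSub_transitive htrans
  haveI : Nonempty Ω := Fintype.card_pos_iff.mp (by omega)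
  obtain ⟨x⟩ := ‹Nonempty Ω›
  set H := stabilizer G x
  have hk := index_subgroupOf_stabilizer D hDt H x le_rfl
  -- every other point has stabilizer equal to the point stabilizer in `D`
  have hstab : ∀ y : Ω, y ≠ x → stabilizer ↥H y = D.subgroupOf H ∧
      ∀ z : Ω, z ≠ x → ∃ h : ↥H, h • y = z := by
    intro y hy
    have hle : stabilizer ↥H y ≤ D.subgroupOf H := fun h hh => by
      by_contra hn
      exact hy (unique_fixed htrans (g := (h : G)) hn (mem_stabilizer_iff.mp hh)
        (mem_stabilizer_iff.mp h.2))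
    have hx : x ∉ orbit ↥H y := by
      rintro ⟨h, hh⟩
      apply hy
      have : h⁻¹ • x = x := mem_stabilizer_iff.mp (h⁻¹).2
      rw [← hh] at this
      exact (by simpa using this : y = h • y).trans hh
    have hub : orbit ↥H y ⊆ {x}ᶜ := fun z hz => fun e => hx (Set.mem_singleton_iff.mp e ▸ hz)
    have hcard : ({x}ᶜ : Set Ω).ncard = Fintype.card Ω - 1 := by
      rw [Set.ncard_compl, Set.ncard_singleton, Nat.card_eq_fintype_card]
    have hd : (D.subgroupOf H).index ∣ (stabilizer ↥H y).index := Subgroup.index_dvd_of_le hle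
    have hpos : 0 < (stabilizer ↥H y).index := Nat.pos_of_ne_zero Subgroup.index_ne_zero_of_finite
    have h1 := Set.ncard_le_ncard hub
    rw [hcard, ← index_stabilizer] at h1
    rw [hk, hidx] at hd
    have h2 := Nat.le_of_dvd hpos hd
    have heq : (stabilizer ↥H y).index = (D.subgroupOf H).index := by rw [hk, hidx]; omega
    refine ⟨?_, fun z hz => ?_⟩
    · apply Subgroup.eq_of_le_of_card_ge hle
      have e1 := Subgroup.index_mul_card (stabilizer ↥H y)
      have e2 := Subgroup.index_mul_card (D.subgroupOf H)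
      rw [heq, ← e2] at e1
      exact (Nat.eq_of_mul_eq_mul_left (Nat.pos_of_ne_zero Subgroup.index_ne_zero_of_finite) e1).ge
    · have : orbit ↥H y = {x}ᶜ := Set.eq_of_subset_of_ncard_le hub (by
        rw [hcard, ← index_stabilizer, heq, hk, hidx])
      have hz' : z ∈ orbit ↥H y := by rw [this]; exact hz
      exact hz'
  -- D acts regularly
  have hreg : ∀ d : ↥D, d • x = x → d = 1 := by
    intro d hd
    apply Subtype.ext
    apply eq_of_smul_eq_smul (α := Ω)
    intro ω
    rw [Subgroup.coe_one, one_smul]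
    by_cases hω : ω = x
    · rw [hω]; exact hd
    · have hm : (⟨(d : G), hd⟩ : ↥H) ∈ D.subgroupOf H := d.2
      rw [← (hstab ω hω).1] at hm
      exact mem_stabilizer_iff.mp hm
  have hcardD : Fintype.card Ω = Nat.card ↥D := by
    rw [Nat.card_eq_fintype_card]
    refine (Fintype.card_congr (Equiv.ofBijective (fun d : ↥D => d • x) ⟨fun a b h => ?_, fun z => ?_⟩)).symm
    · have := hreg (a⁻¹ * b) (by rw [mul_smul, ← show a • x = b • x from h, inv_smul_smul])
      exact inv_mul_eq_one.mp this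
    · exact exists_smul_eq ↥D x z
  -- all nontrivial elements of D have the same order
  have hsame : ∀ a b : ↥D, a ≠ 1 → b ≠ 1 → orderOf a = orderOf b := by
    intro a b ha hb
    obtain ⟨h, hh⟩ := (hstab (a • x) (fun e => ha (hreg a e))).2 (b • x) (fun e => hb (hreg b e))
    have hmem : (h : G) * (a : G) * (h : G)⁻¹ ∈ D :=
      (inferInstance : D.Normal).conj_mem _ a.2 _
    have hinvx : (h : G)⁻¹ • x = x := mem_stabilizer_iff.mp (inv_mem h.2)
    have hval : (⟨_, hmem⟩ : ↥D) = b := by
      have h2 : (b⁻¹ * ⟨_, hmem⟩ : ↥D) • x = x := by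
        rw [mul_smul, inv_smul_eq_iff, ← hh]
        show ((h : G) * (a : G) * (h : G)⁻¹) • x = (h : G) • ((a : G) • x)
        rw [mul_smul, hinvx, mul_smul]
      exact (inv_mul_eq_one.mp (hreg _ h2)).symm
    rw [← hval, ← Subgroup.orderOf_coe, ← Subgroup.orderOf_coe]
    show orderOf (a : G) = orderOf (MulAut.conj (h : G) (a : G))
    rw [MulEquiv.orderOf_eq]
  rw [hcardD] at hΩ ⊢
  obtain ⟨p, hp, hpd⟩ := Nat.exists_prime_and_dvd (show Nat.card ↥D ≠ 1 by omega)
  haveI : Fact p.Prime := ⟨hp⟩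
  obtain ⟨a, ha⟩ := exists_prime_orderOf_dvd_card' p hpd
  have ha1 : a ≠ 1 := fun h => by simp [h] at ha; exact hp.one_lt.ne ha
  have hpg : IsPGroup p ↥D := fun b => by
    by_cases hb : b = 1
    · exact ⟨0, by simp [hb]⟩
    · exact ⟨1, by rw [pow_one, ← ha, hsame a b ha1 hb, pow_orderOf_eq_one]⟩
  obtain ⟨j, hj⟩ := hpg.exists_card_eq
  rw [hj]
  exact ⟨p, j, hp.prime, Nat.pos_of_ne_zero (fun h => by rw [h, pow_zero] at hj; omega), rfl⟩

open Classical in
theorem index_le_sqrt [Fintype Ω] (htrans : IsPretransitive G Ω) (himp : ¬ IsPreprimitive G Ω) :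
    ((derSub G Ω).index : ℝ) ≤ Real.sqrt (Fintype.card Ω) - 1 := by
  haveI := Fintype.ofFinite G
  haveI := htrans
  set D := derSub G Ω with hDdef
  haveI hDt : IsPretransitive ↥D Ω := derSub_transitive htrans
  obtain ⟨B, hB, hBnt⟩ : ∃ B : Set Ω, IsBlock G B ∧ ¬ IsTrivialBlock B := by
    by_contra h
    push Not at h
    exact himp ⟨fun {B} hB => h B hB⟩
  simp only [IsTrivialBlock, not_or] at hBnt
  have hBne : B.Nonempty := by
    rw [Set.nonempty_iff_ne_empty]
    intro h; exact hBnt.1 (h ▸ Set.subsingleton_empty)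
  obtain ⟨b₀, hb₀⟩ := hBne
  have hmB : 2 ≤ B.ncard := by
    by_contra h
    apply hBnt.1
    rw [← Set.ncard_le_one_iff_subsingleton]
    omega
  -- the setwise stabilizer acting on the block
  let S : SubMulAction ↥(stabilizer G B) Ω :=
    { carrier := B
      smul_mem' := fun h b hb => by
        have : (h : G) • B = B := h.2
        have h2 : (h : G) • b ∈ (h : G) • B := Set.smul_mem_smul_set hb
        rw [this] at h2
        exact h2 }
  haveI : Fintype ↥S := Fintype.ofFinite _
  have hSD : IsPretransitive ↥(D.subgroupOf (stabilizer G B)) ↥S := by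
    constructor
    intro u v
    obtain ⟨d, hd⟩ := exists_smul_eq ↥D (u : Ω) (v : Ω)
    have hdB : (d : G) ∈ stabilizer G B :=
      hB.smul_eq_of_mem (a := (u : Ω)) u.2 (by show (d : G) • (u : Ω) ∈ B; rw [show (d : G) • (u : Ω) = v from hd]; exact v.2)
    exact ⟨⟨⟨(d : G), hdB⟩, d.2⟩, Subtype.ext hd⟩
  have h1 : D.index ∣ B.ncard - 1 := by
    have h := index_dvd (⟨b₀, hb₀⟩ : ↥S) (D.subgroupOf (stabilizer G B)) hSD
      fun g hg u v hu hv => Subtype.ext (unique_fixed htrans (g := (g : G)) hg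
        (congrArg Subtype.val hu) (congrArg Subtype.val hv))
    rw [index_subgroupOf_stabilizer D hDt (stabilizer G B) b₀
      (fun g hg => hB.smul_eq_of_mem hb₀ (by rw [mem_stabilizer_iff.mp hg]; exact hb₀))] at h
    rwa [← Nat.card_eq_fintype_card, show Nat.card ↥S = B.ncard from Nat.card_coe_set_eq B] at h
  -- the action on the translates of the block
  haveI : Fintype ↥(orbit G B) := Fintype.ofFinite _
  have hOD : IsPretransitive ↥D ↥(orbit G B) := by
    constructor
    rintro ⟨_, g₁, rfl⟩ ⟨_, g₂, rfl⟩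
    obtain ⟨d, hd⟩ := exists_smul_eq ↥D (g₁ • b₀) (g₂ • b₀)
    refine ⟨d, Subtype.ext ?_⟩
    show (d : G) • g₁ • B = g₂ • B
    rw [← mul_smul]
    have : ¬ Disjoint (((d : G) * g₁) • B) (g₂ • B) := Set.not_disjoint_iff.mpr
      ⟨g₂ • b₀, by rw [← hd]; exact ⟨b₀, hb₀, mul_smul _ _ _⟩, Set.smul_mem_smul_set hb₀⟩
    exact (hB.smul_eq_smul_or_disjoint _ _).resolve_right this
  have huniq : ∀ g : G, g ∉ D → ∀ a b : ↥(orbit G B), g • a = a → g • b = b → a = b := by
    intro g hg
    -- a fixed translate contains the fixed point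
    have key : ∀ a : ↥(orbit G B), g • a = a → ∃ ω ∈ (a : Set Ω), g • ω = ω := by
      rintro ⟨_, g₁, rfl⟩ ha
      have ha' : g • g₁ • B = g₁ • B := congrArg Subtype.val ha
      have hB1 : IsBlock G (g₁ • B) := hB.translate g₁
      by_contra hno
      push Not at hno
      let T : SubMulAction ↥(stabilizer G (g₁ • B)) Ω :=
        { carrier := g₁ • B
          smul_mem' := fun h b hb => by
            have : (h : G) • (g₁ • B) = g₁ • B := h.2
            have h2 : (h : G) • b ∈ (h : G) • (g₁ • B) := Set.smul_mem_smul_set hb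
            rw [this] at h2
            exact h2 }
      haveI : Fintype ↥T := Fintype.ofFinite _
      haveI : Nonempty ↥T := ⟨⟨g₁ • b₀, Set.smul_mem_smul_set hb₀⟩⟩
      have hTD : IsPretransitive ↥(D.subgroupOf (stabilizer G (g₁ • B))) ↥T := by
        constructor
        intro u v
        obtain ⟨d, hd⟩ := exists_smul_eq ↥D (u : Ω) (v : Ω)
        have hdB : (d : G) ∈ stabilizer G (g₁ • B) :=
          hB1.smul_eq_of_mem (a := (u : Ω)) u.2 (by
            show (d : G) • (u : Ω) ∈ g₁ • B
            rw [show (d : G) • (u : Ω) = v from hd]; exact v.2)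
        exact ⟨⟨⟨(d : G), hdB⟩, d.2⟩, Subtype.ext hd⟩
      haveI := Fintype.ofFinite ↥(D.subgroupOf (stabilizer G (g₁ • B)))
      have h := sum_fixed_coset (X := ↥T) (D.subgroupOf (stabilizer G (g₁ • B))) hTD ⟨g, ha'⟩
      have hlt : ∑ d : ↥(D.subgroupOf (stabilizer G (g₁ • B))),
          (Finset.univ.filter fun u : ↥T => ((⟨g, ha'⟩ : ↥(stabilizer G (g₁ • B))) * d) • u = u).card <
          ∑ _d : ↥(D.subgroupOf (stabilizer G (g₁ • B))), 1 := by
        refine Finset.sum_lt_sum (fun d _ => ?_) ⟨1, Finset.mem_univ _, ?_⟩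
        · refine Finset.card_le_one.mpr fun u hu v hv => Subtype.ext ?_
          simp only [Finset.mem_filter, Finset.mem_univ, true_and] at hu hv
          refine unique_fixed htrans (g := g * ((d : ↥(stabilizer G (g₁ • B))) : G)) (fun hh => hg ?_)
            (congrArg Subtype.val hu) (congrArg Subtype.val hv)
          simpa using mul_mem hh (inv_mem (d.2 : ((d : ↥(stabilizer G (g₁ • B))) : G) ∈ D))
        · rw [Nat.lt_one_iff, Finset.card_eq_zero, Finset.filter_eq_empty_iff]
          intro u _ hu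
          apply hno u u.2
          simp only [OneMemClass.coe_one, mul_one] at hu
          exact congrArg Subtype.val hu
      rw [Finset.sum_const, Finset.card_univ, smul_eq_mul, mul_one] at hlt
      exact hlt.ne (by convert h)
    intro a b ha hb
    obtain ⟨ω, hω, hgω⟩ := key a ha
    obtain ⟨ω', hω', hgω'⟩ := key b hb
    have := unique_fixed htrans hg hgω hgω'
    subst this
    obtain ⟨g₁, hg₁⟩ := a.2
    obtain ⟨g₂, hg₂⟩ := b.2
    refine Subtype.ext ?_
    rw [← hg₁] at hω ⊢
    rw [← hg₂] at hω' ⊢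
    exact (hB.smul_eq_smul_or_disjoint g₁ g₂).resolve_right (Set.not_disjoint_iff.mpr ⟨ω, hω, hω'⟩)
  have h2 : D.index ∣ Fintype.card ↥(orbit G B) - 1 :=
    index_dvd (⟨B, mem_orbit_self B⟩ : ↥(orbit G B)) D hOD huniq
  have hmul := hB.ncard_block_mul_ncard_orbit_eq ⟨b₀, hb₀⟩
  rw [← Nat.card_coe_set_eq (orbit G B), Nat.card_eq_fintype_card, Nat.card_eq_fintype_card] at hmul
  have ho : 2 ≤ Fintype.card ↥(orbit G B) := by
    by_contra h
    apply hBnt.2
    have hpos : 0 < Fintype.card ↥(orbit G B) := Fintype.card_pos_iff.mpr ⟨⟨B, mem_orbit_self B⟩⟩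
    rw [show Fintype.card ↥(orbit G B) = 1 by omega, mul_one] at hmul
    exact Set.eq_of_subset_of_ncard_le (Set.subset_univ B) (by
      rw [Set.ncard_univ, Nat.card_eq_fintype_card, hmul])
  have k1 := Nat.le_of_dvd (by omega) h1
  have k2 := Nat.le_of_dvd (by omega) h2
  have hsq : (D.index + 1) * (D.index + 1) ≤ Fintype.card Ω := by
    rw [← hmul]; exact Nat.mul_le_mul (by omega) (by omega)
  rw [le_sub_iff_add_le]
  apply Real.le_sqrt_of_sq_le
  rw [sq]
  exact_mod_cast hsq

end CfsgLib.Base.Derange
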